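import Groth.Agent.QFCount.Gen
import Groth.Agent.UnivOpen.QuasiFiniteUnibranch
import Groth.Agent.UnivOpen.Chevalley
import Groth.Agent.ConsPropLib.Noetherian

/-!
# Disjointness of the components when the number of geometric points is constant
-/

set_option autoImplicit false
set_option linter.style.haveILetI false
set_option linter.unusedSectionVars false
set_option backward.isDefEq.respectTransparency false
set_option backward.isDefEq.respectTransparency.types false

universe u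

open AlgebraicGeometry CategoryTheory CategoryTheory.Limits IsLocalRing Topology
open Groth.Agent.GeomLoci (genPt genPt_ne genPt_specializes)

namespace Groth.Agent.QFCount

theorem card_closed_lt_generic {A : Type u} [CommRing A] [IsDomain A] [IsDiscreteValuationRing A]
    [IsAdicComplete (maximalIdeal A) A] {X : Scheme.{u}} (q : X ⟶ Spec (CommRingCat.of A)) [LocallyQuasiFinite q]
    [LocallyOfFiniteType q] [QuasiCompact q] [IsSeparated q]
    (hopen : ∀ x, q x = closedPoint A → EGA43.IsOpenAt q.base x) {x₀ z₁ z₂ : X} (hx₀ : q x₀ = closedPoint A)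
    (h₁ : z₁ ⤳ x₀) (h₂ : z₂ ⤳ x₀) (e₁ : q z₁ = genPt A) (e₂ : q z₂ = genPt A) (hne : z₁ ≠ z₂) :
    ENat.card ↥(q ⁻¹' {(closedPoint A : Spec (CommRingCat.of A))}) + 1 ≤ ENat.card ↥(q ⁻¹' {genPt A}) := by
  classical
  haveI : HenselianLocalRing A := Hensel.henselianLocalRing_of_henselianRing A
  haveI : IsLocallyNoetherian X := LocallyOfFiniteType.isLocallyNoetherian q
  obtain ⟨W, -, hW, hWc⟩ := exists_finite_part q
  haveI := hW
  have h : ∀ x : ↥(q ⁻¹' {(closedPoint A : Spec (CommRingCat.of A))}), ∃ z, z ⤳ x.1 ∧ q z = genPt A :=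
    fun x => FlatDvr.exists_generization_of_isOpenAt q (hopen x.1 x.2)
      (show genPt A ⤳ q x.1 by rw [show q x.1 = _ from x.2]; exact genPt_specializes)
  choose z hz hzq using h
  have hsame : ∀ {a b t : X}, q a = closedPoint A → q b = closedPoint A → t ⤳ a → t ⤳ b → a = b := by
    intro a b t ha hb hta htb
    let wa : W := ⟨a, hWc _ ha⟩
    let wb : W := ⟨b, hWc _ hb⟩
    let wt : W := ⟨t, hta.mem_open W.isOpen wa.2⟩
    have k1 : wt ⤳ wa := W.ι.isOpenEmbedding.isInducing.specializes_iff.1 hta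
    have k2 : wt ⤳ wb := W.ι.isOpenEmbedding.isInducing.specializes_iff.1 htb
    exact congrArg W.ι (eq_of_common_generization (W.ι ≫ q) k1 k2 ha hb)
  let x₀' : ↥(q ⁻¹' {(closedPoint A : Spec (CommRingCat.of A))}) := ⟨x₀, hx₀⟩
  obtain ⟨w, hw, hwq, hwne⟩ : ∃ w, w ⤳ x₀ ∧ q w = genPt A ∧ w ≠ z x₀' := by
    by_cases h' : z₁ = z x₀'
    · exact ⟨z₂, h₂, e₂, fun e => hne (h'.trans e.symm)⟩
    · exact ⟨z₁, h₁, e₁, h'⟩
  have hcard : ENat.card (Option ↥(q ⁻¹' {(closedPoint A : Spec (CommRingCat.of A))})) =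
      ENat.card ↥(q ⁻¹' {(closedPoint A : Spec (CommRingCat.of A))}) + 1 :=
    (fun (T : Type u) => (by
      rcases finite_or_infinite T with h | h
      · rw [ENat.card_eq_coe_natCard, ENat.card_eq_coe_natCard, Finite.card_option]; simp
      · rw [ENat.card_eq_top.2 inferInstance, ENat.card_eq_top.2 h, top_add] :
        ENat.card (Option T) = ENat.card T + 1)) _
  rw [← hcard]
  refine ENat.card_le_card_of_injective
    (f := fun o => (o.elim (⟨w, hwq⟩ : ↥(q ⁻¹' {genPt A})) fun a => ⟨z a, hzq a⟩)) ?_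
  rintro (_ | a) (_ | b) hab
  · rfl
  · have e : w = z b := congrArg Subtype.val hab
    have hb : x₀' = b := Subtype.ext (hsame hx₀ b.2 hw (e.symm ▸ hz b))
    exact absurd (hb ▸ e) hwne
  · have e : z a = w := congrArg Subtype.val hab
    have ha : x₀' = a := Subtype.ext (hsame hx₀ a.2 hw (e ▸ hz a))
    exact absurd (ha ▸ e.symm) hwne
  · have e : z a = z b := congrArg Subtype.val hab
    exact congrArg some (Subtype.ext (hsame a.2 b.2 (hz a) (e.symm ▸ hz b)))

variable {X Y : Scheme.{u}} [IsLocallyNoetherian Y] (f : X ⟶ Y) [LocallyQuasiFinite f] [LocallyOfFiniteType f]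
  [QuasiCompact f] [IsSeparated f] [UniversallyOpen f]

theorem maximal_image {ζ : X} (hm : ∀ t, t ⤳ ζ → t = ζ) (b : Y) (hb : b ⤳ f ζ) : b = f ζ := by
  haveI : IsLocallyNoetherian X := LocallyOfFiniteType.isLocallyNoetherian f
  obtain ⟨t, ht, rfl⟩ := FlatDvr.exists_generization_of_isOpenAt f
    (show EGA43.IsOpenAt f.base ζ from fun U hU => f.isOpenMap.image_mem_nhds hU) hb
  rw [hm t ht]

theorem false_of_two_components {x ζ₁ ζ₂ : X} (h₁ : ζ₁ ⤳ x) (h₂ : ζ₂ ⤳ x) (m₁ : ∀ t, t ⤳ ζ₁ → t = ζ₁)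
    (m₂ : ∀ t, t ⤳ ζ₂ → t = ζ₂) (hne : ζ₁ ≠ ζ₂) (hy : CAlg2.IsGeomUnibranch (Y.presheaf.stalk (f x)))
    (hn : MoreMor.nGeomConnComp f (f ζ₁) = MoreMor.nGeomConnComp f (f x)) : False := by
  haveI : IsLocallyNoetherian X := LocallyOfFiniteType.isLocallyNoetherian f
  have hη : f ζ₂ = f ζ₁ := UnivOpen.maximal_unique hy.1 (h₂.map f.continuous)
    (fun b hb => maximal_image f m₂ b hb) (h₁.map f.continuous) (fun b hb => maximal_image f m₁ b hb)
  have hdisc := discrete_fibre f (f ζ₁)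
  have hyne : f x ≠ f ζ₁ := by
    intro e
    have k1 : (⟨ζ₁, rfl⟩ : ↥(f ⁻¹' {f ζ₁})) ⤳ ⟨x, e⟩ := (subtype_specializes_iff _ _).2 h₁
    have k2 : (⟨ζ₂, hη⟩ : ↥(f ⁻¹' {f ζ₁})) ⤳ ⟨x, e⟩ := (subtype_specializes_iff _ _).2 h₂
    exact hne (congrArg Subtype.val (k1.eq.trans k2.eq.symm))
  obtain ⟨A, _, _, _, _, _, τ, hc, hτη⟩ := exists_dvr_complete (h₁.map f.continuous) hyne
  let q := pullback.snd f τ
  let p := pullback.fst f τ
  haveI : LocallyQuasiFinite q := MorphismProperty.pullback_snd _ _ inferInstance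
  have hcount := fun t => (Triage.GeomCount.nGeom_baseChange f q p τ (IsPullback.of_hasPullback f τ) t).2
  obtain ⟨x₀, hx₀p, hx₀q⟩ := Scheme.Pullback.exists_preimage_pullback (f := f) (g := τ) x
    (closedPoint A : Spec (CommRingCat.of A)) hc.symm
  have hgen : ∀ ζ : X, ζ ⤳ x → (∀ t, t ⤳ ζ → t = ζ) → f ζ = f ζ₁ →
      ∃ z, z ⤳ x₀ ∧ q z = genPt A ∧ p z = ζ := by
    intro ζ hζ hm hfζ
    obtain ⟨T, j, _, _, hr, hjg⟩ := ConsPropLib.exists_integral_closure ζ
    obtain ⟨t, ht⟩ : x ∈ Set.range j := by rw [hr]; exact specializes_iff_mem_closure.1 hζ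
    haveI : LocallyQuasiFinite (j ≫ f) := inferInstance
    have hopen : EGA43.IsUnivOpenAt (j ≫ f) t := by
      refine UnivOpen.isUnivOpenAt_of_quasiFinite (j ≫ f) t ?_ ?_ ?_
      · have : t ∈ (j ≫ f).quasiFiniteLocus := by rw [Scheme.Hom.quasiFiniteLocus_eq_top]; trivial
        exact this
      · rw [Scheme.Hom.comp_apply, ht]; exact hy
      · refine UnivOpen.ker_stalkMap_le_nilradical (j ≫ f) t (by rw [Scheme.Hom.comp_apply, ht]; exact hy.1) ?_
        intro b hb
        rw [Scheme.Hom.comp_apply, hjg] at hb ⊢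
        exact maximal_image f hm b hb
    let i := pullbackRightPullbackFstIso f τ j
    let e := i.inv ≫ pullback.snd j (pullback.fst f τ)
    have he : Set.range e = p ⁻¹' Set.range j := by
      rw [show ⇑e = pullback.snd j (pullback.fst f τ) ∘ i.inv from funext fun _ => Scheme.Hom.comp_apply _ _ _,
        Set.range_comp, i.inv.surjective.range_eq, Set.image_univ, Scheme.Pullback.range_snd]
    obtain ⟨t', ht'⟩ : x₀ ∈ Set.range e := by rw [he]; exact ⟨t, ht.trans hx₀p.symm⟩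
    have heq : e ≫ q = pullback.snd (j ≫ f) τ := by simp [e, i, q]
    have hep : e ≫ p = pullback.fst (j ≫ f) τ ≫ j := by
      simp only [e, i, p, Category.assoc, ← pullback.condition]
      simp
    obtain ⟨z', hz', hzq'⟩ := (UnivOpen.isUnivOpenAt_iff_dvr (j ≫ f) t).1 hopen A τ
      (by rw [Scheme.Hom.comp_apply, ht, hc]) t' (by
        refine j.isClosedEmbedding.injective ?_
        show j (pullback.fst (j ≫ f) τ t') = j t
        rw [← Scheme.Hom.comp_apply, ← hep, Scheme.Hom.comp_apply, ht', ht]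
        exact hx₀p) (by
        show pullback.snd (j ≫ f) τ t' = _
        rw [← heq, Scheme.Hom.comp_apply, ht']; exact hx₀q)
    have hq' : q (e z') = genPt A := GeomLoci.eq_genPt (by
      rw [← Scheme.Hom.comp_apply, heq]; exact hzq')
    refine ⟨e z', ht' ▸ hz'.map e.continuous, hq', ?_⟩
    have hp : p (e z') ∈ Set.range j := by
      rw [← Set.mem_preimage, ← he]; exact Set.mem_range_self z'
    rw [hr] at hp
    have hspec : ζ ⤳ p (e z') := specializes_iff_mem_closure.2 hp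
    have hfz : f (p (e z')) = f ζ₁ := by
      rw [← Scheme.Hom.comp_apply, pullback.condition, Scheme.Hom.comp_apply]
      rw [show pullback.snd f τ (e z') = genPt A from hq', hτη]
    have k : (⟨ζ, hfζ⟩ : ↥(f ⁻¹' {f ζ₁})) ⤳ ⟨p (e z'), hfz⟩ := (subtype_specializes_iff _ _).2 hspec
    exact (congrArg Subtype.val k.eq).symm
  obtain ⟨z₁, hz₁, hz₁q, hz₁p⟩ := hgen ζ₁ h₁ m₁ rfl
  obtain ⟨z₂, hz₂, hz₂q, hz₂p⟩ := hgen ζ₂ h₂ m₂ hη
  have hlt := card_closed_lt_generic q
    (fun v _ => fun U hU => (pullback.snd f τ).isOpenMap.image_mem_nhds hU) hx₀q hz₁ hz₂ hz₁q hz₂q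
    (fun e => hne (by rw [← hz₁p, ← hz₂p, e]))
  rw [← nGeom_closed q, hcount, hc] at hlt
  have hle := hlt.trans (card_fibre_le_nGeom q (genPt A))
  rw [hcount, hτη, hn] at hle
  obtain ⟨n, hn'⟩ := ENat.ne_top_iff_exists.1 (GeomLoci.nGeomConnComp_ne_top f (f x))
  rw [← hn'] at hle
  exact Nat.not_succ_le_self n (by exact_mod_cast hle)

end Groth.Agent.QFCount
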