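import Groth.Agent.S0503
import Groth.Agent.UnivOpenDvr5.Core
import Groth.Agent.GrpdSplit.Nbhd
import Mathlib.AlgebraicGeometry.ZariskisMainTheorem

/-!
# The finite part of a quasi-finite separated scheme over a henselian local ring
-/

set_option autoImplicit false
set_option linter.style.haveILetI false
set_option backward.isDefEq.respectTransparency false
set_option backward.isDefEq.respectTransparency.types false

universe u

open AlgebraicGeometry CategoryTheory CategoryTheory.Limits IsLocalRing Topology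

namespace Groth.Agent.QFCount

variable {R : Type u} [CommRing R] [HenselianLocalRing R] {X : Scheme.{u}} (f : X ⟶ Spec (CommRingCat.of R))

/-- The finite part of an affine piece. -/
theorem exists_finite_piece [LocallyQuasiFinite f] [LocallyOfFiniteType f] (U : X.Opens) (hU : IsAffineOpen U) :
    ∃ V : X.Opens, IsFinite (V.ι ≫ f) ∧ ∀ x ∈ U, f x = closedPoint R → x ∈ V := by
  let φ := Spec.preimage (hU.fromSpec ≫ f)
  have hφ : Spec.map φ = hU.fromSpec ≫ f := Spec.map_preimage _
  letI : Algebra R Γ(X, U) := φ.hom.toAlgebra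
  haveI : Algebra.FiniteType R Γ(X, U) := by
    have h : LocallyOfFiniteType (Spec.map φ) := by rw [hφ]; infer_instance
    exact (HasRingHomProperty.Spec_iff (P := @LocallyOfFiniteType)).1 h
  haveI : Algebra.QuasiFinite R Γ(X, U) := by
    have h : LocallyQuasiFinite (Spec.map φ) := by rw [hφ]; infer_instance
    exact (HasRingHomProperty.Spec_iff (P := @LocallyQuasiFinite)).1 h
  obtain ⟨e, he, hfin, htop⟩ := S0503.result R Γ(X, U)
  let T := Γ(X, U) ⧸ Ideal.span ({1 - e} : Set Γ(X, U))
  haveI : IsLocalization.Away e T := IsLocalization.away_of_isIdempotentElem he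
    (Ideal.mk_ker) Ideal.Quotient.mk_surjective
  let j₀ : Spec (CommRingCat.of T) ⟶ Spec Γ(X, U) := Spec.map (CommRingCat.ofHom (algebraMap Γ(X, U) T))
  haveI : IsOpenImmersion j₀ := IsOpenImmersion.of_isLocalization e
  let j := j₀ ≫ hU.fromSpec
  refine ⟨j.opensRange, ?_, fun x hxU hx => ?_⟩
  · have h1 : IsFinite (j ≫ f) := by
      rw [Category.assoc, ← hφ, ← Spec.map_comp, IsFinite.SpecMap_iff]
      exact (RingHom.finite_algebraMap (A := R) (B := T)).2 hfin
    have h2 : j.opensRange.ι ≫ f = j.isoOpensRange.inv ≫ j ≫ f := by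
      rw [← Scheme.Hom.isoOpensRange_inv_comp_assoc]
    rw [h2]
    exact (MorphismProperty.cancel_left_of_respectsIso @IsFinite _ _).2 h1
  · obtain ⟨p, rfl⟩ : x ∈ Set.range hU.fromSpec := by rw [hU.range_fromSpec]; exact hxU
    have hp : maximalIdeal R ≤ Ideal.comap φ.hom (p : PrimeSpectrum Γ(X, U)).asIdeal := by
      rw [← Scheme.Hom.comp_apply, ← hφ] at hx
      exact (congrArg PrimeSpectrum.asIdeal hx).ge
    have hep : e ∉ (p : PrimeSpectrum Γ(X, U)).asIdeal := fun hep => by
      have hle : Ideal.span ({e} : Set Γ(X, U)) ⊔ Ideal.map φ.hom (maximalIdeal R) ≤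
          (p : PrimeSpectrum Γ(X, U)).asIdeal :=
        sup_le ((Ideal.span_singleton_le_iff_mem _).2 hep) (Ideal.map_le_iff_le_comap.2 hp)
      have h1 : (1 : Γ(X, U)) ∈ Ideal.span ({e} : Set Γ(X, U)) ⊔ Ideal.map φ.hom (maximalIdeal R) := by
        have h2 := congrArg (Ideal.comap (Ideal.Quotient.mk (Ideal.span ({e} : Set Γ(X, U))))) htop
        rw [IsScalarTower.algebraMap_eq R Γ(X, U), ← Ideal.map_map, Ideal.comap_top] at h2
        erw [Ideal.comap_map_of_surjective' _ Ideal.Quotient.mk_surjective, Ideal.mk_ker] at h2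
        rw [sup_comm] at h2
        rw [show algebraMap R Γ(X, U) = φ.hom from rfl] at h2
        rw [h2]; trivial
      exact (p : PrimeSpectrum Γ(X, U)).isPrime.ne_top ((Ideal.eq_top_iff_one _).2 (hle h1))
    obtain ⟨t, ht⟩ : (p : PrimeSpectrum Γ(X, U)) ∈ Set.range (PrimeSpectrum.comap (algebraMap Γ(X, U) T)) := by
      rw [PrimeSpectrum.localization_away_comap_range T e]; exact hep
    exact ⟨t, congrArg hU.fromSpec ht⟩

/-- The finite part: clopen, finite over the base, containing the closed fibre. -/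
theorem exists_finite_part [LocallyQuasiFinite f] [LocallyOfFiniteType f] [QuasiCompact f] [IsSeparated f] :
    ∃ W : X.Opens, IsClosed (W : Set X) ∧ IsFinite (W.ι ≫ f) ∧
      ∀ x : X, f x = closedPoint R → x ∈ W := by
  haveI : CompactSpace X := QuasiCompact.compactSpace_of_compactSpace f
  obtain ⟨s, hsf, hsU⟩ := (isCompact_iff_finite_and_eq_biUnion_affineOpens (U := (⊤ : X.Opens))).1
    (by rw [TopologicalSpace.Opens.coe_top]; exact isCompact_univ)
  haveI : Finite s := hsf.to_subtype
  obtain ⟨n, ⟨eqv⟩⟩ := Finite.exists_equiv_fin s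
  choose V hV hVU using fun i : Fin n => exists_finite_piece f (eqv.symm i).1.1 (eqv.symm i).1.2
  have hW := GrpdSplit.isFinite_iSup_ι f V hV
  refine ⟨⨆ i, V i, ?_, hW, fun x hx => ?_⟩
  · haveI := UniversallyClosed.of_comp_of_isSeparated (⨆ i, V i).ι f
    rw [← (⨆ i, V i).range_ι, ← Set.image_univ]
    exact (⨆ i, V i).ι.isClosedMap _ isClosed_univ
  · have hx' : x ∈ (⊤ : X.Opens) := trivial
    rw [hsU] at hx'
    obtain ⟨U, hU, hxU⟩ : ∃ U ∈ s, x ∈ U.1 := by simpa using hx'
    refine TopologicalSpace.Opens.mem_iSup.2 ⟨eqv ⟨U, hU⟩, hVU _ x ?_ hx⟩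
    rw [Equiv.symm_apply_apply]
    exact hxU

/-- Distinct closed-fibre points of a finite scheme over a henselian ring have no common generization. -/
theorem eq_of_common_generization {W : Scheme.{u}} (g : W ⟶ Spec (CommRingCat.of R)) [IsFinite g] {z w₁ w₂ : W}
    (h₁ : z ⤳ w₁) (h₂ : z ⤳ w₂) (e₁ : g w₁ = closedPoint R) (e₂ : g w₂ = closedPoint R) : w₁ = w₂ := by
  haveI : IsAffine W := isAffine_of_isAffineHom g
  let φ := Spec.preimage (W.isoSpec.inv ≫ g)
  have hφ : φ.hom.Finite := by
    rw [← IsFinite.SpecMap_iff, Spec.map_preimage]; infer_instance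
  let z' : PrimeSpectrum Γ(W, ⊤) := W.isoSpec.hom z
  letI : Algebra R (Γ(W, ⊤) ⧸ z'.asIdeal) := ((Ideal.Quotient.mk z'.asIdeal).comp φ.hom).toAlgebra
  haveI : Module.Finite R (Γ(W, ⊤) ⧸ z'.asIdeal) :=
    (RingHom.Finite.of_surjective _ Ideal.Quotient.mk_surjective).comp hφ
  haveI : IsLocalRing (Γ(W, ⊤) ⧸ z'.asIdeal) := UnivOpenDvr5.isLocalRing_of_finite_domain R _
  have key : ∀ w : W, z ⤳ w → g w = closedPoint R →
      (W.isoSpec.hom w : PrimeSpectrum Γ(W, ⊤)).asIdeal =
        Ideal.comap (Ideal.Quotient.mk z'.asIdeal) (maximalIdeal _) := by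
    intro w hw hgw
    let w' : PrimeSpectrum Γ(W, ⊤) := W.isoSpec.hom w
    have hle : z'.asIdeal ≤ w'.asIdeal :=
      (PrimeSpectrum.le_iff_specializes z' w').2 (hw.map W.isoSpec.hom.continuous)
    haveI : w'.asIdeal.IsPrime := w'.isPrime
    have hmax : w'.asIdeal.IsMaximal := by
      have hcomap : Ideal.comap φ.hom w'.asIdeal = maximalIdeal R := by
        have : Spec.map φ (W.isoSpec.hom w) = closedPoint R := by
          rw [Spec.map_preimage, ← Scheme.Hom.comp_apply, Iso.hom_inv_id_assoc, hgw]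
        exact congrArg PrimeSpectrum.asIdeal this
      letI := φ.hom.toAlgebra
      haveI : Module.Finite R Γ(W, ⊤) := hφ
      haveI : (Ideal.comap (algebraMap R Γ(W, ⊤)) w'.asIdeal).IsMaximal := by
        show (Ideal.comap φ.hom w'.asIdeal).IsMaximal
        rw [hcomap]; infer_instance
      exact Ideal.isMaximal_of_isIntegral_of_isMaximal_comap _ (by assumption)
    haveI := hmax
    haveI : (Ideal.map (Ideal.Quotient.mk z'.asIdeal) w'.asIdeal).IsMaximal :=
      Ideal.IsMaximal.map_of_surjective_of_ker_le Ideal.Quotient.mk_surjective (by rwa [Ideal.mk_ker])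
    rw [← IsLocalRing.eq_maximalIdeal this, Ideal.comap_map_of_surjective' _ Ideal.Quotient.mk_surjective,
      Ideal.mk_ker, sup_eq_left.2 hle]
  refine W.isoSpec.hom.homeomorph.injective (PrimeSpectrum.ext ?_)
  exact (key w₁ h₁ e₁).trans (key w₂ h₂ e₂).symm

end Groth.Agent.QFCount
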