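import Groth.Agent.GeomLoci.ConnDvr
import Groth.Agent.QFCount.FinitePart
import Groth.Agent.UnivOpen.Criterion
import Groth.Agent.Hensel.Local
import Groth.Agent.S4514

/-!
# Geometric numbers of points of a quasi-finite morphism under generization
-/

set_option autoImplicit false
set_option linter.style.haveILetI false
set_option linter.unusedSectionVars false
set_option backward.isDefEq.respectTransparency false
set_option backward.isDefEq.respectTransparency.types false

universe u

open AlgebraicGeometry CategoryTheory CategoryTheory.Limits IsLocalRing Topology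
open Groth.Agent.GeomLoci (genPt genPt_ne genPt_specializes)

namespace Groth.Agent.QFCount

theorem card_connectedComponents_of_discrete (T : Type u) [TopologicalSpace T] [DiscreteTopology T] :
    ENat.card (_root_.ConnectedComponents T) = ENat.card T := by
  refine (ENat.card_congr (Equiv.ofBijective _root_.ConnectedComponents.mk
    ⟨fun a b h => ?_, ConnectedComponents.surjective_coe⟩)).symm
  have h' := ConnectedComponents.coe_eq_coe'.1 h
  exact (totallyDisconnectedSpace_iff_connectedComponent_subsingleton.1 inferInstance b) h' mem_connectedComponent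

theorem discrete_fibre {X Y : Scheme.{u}} (f : X ⟶ Y) [LocallyQuasiFinite f] (y : Y) :
    DiscreteTopology ↥(f ⁻¹' {y}) :=
  (f.isDiscrete_preimage_singleton y).to_subtype

theorem card_fibre_le_nGeom {X Y : Scheme.{u}} (f : X ⟶ Y) [LocallyQuasiFinite f] (y : Y) :
    ENat.card ↥(f ⁻¹' {y}) ≤ MoreMor.nGeomConnComp f y := by
  haveI := discrete_fibre f y
  rw [← card_connectedComponents_of_discrete]
  exact GeomLoci.card_fibre_le_nGeom f y

/-- A complete discrete valuation ring with algebraically closed residue field through a generization. -/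
theorem exists_dvr_complete {Y : Scheme.{u}} [IsLocallyNoetherian Y] {y y' : Y} (hy : y' ⤳ y) (hne : y ≠ y') :
    ∃ (A : Type u) (_ : CommRing A) (_ : IsDomain A) (_ : IsDiscreteValuationRing A)
      (_ : IsAdicComplete (maximalIdeal A) A) (_ : IsAlgClosed (ResidueField A))
      (τ : Spec (CommRingCat.of A) ⟶ Y), τ (closedPoint A) = y ∧ τ (genPt A) = y' := by
  obtain ⟨A, _, _, _, τ, hτc, hτη⟩ := UnivOpen.exists_dvr_lift hy hne
  let k' := AlgebraicClosure (ResidueField A)
  haveI : IsAdicComplete (maximalIdeal k') k' := by rw [IsLocalRing.maximalIdeal_eq_bot]; infer_instance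
  obtain ⟨A', _, _, _, _, _, hA'c, hA'f, ⟨e⟩⟩ := Groth.Agent.S4514.result (A := A) k'
  obtain ⟨hdom, hdvr, ε, -⟩ := UnivOpenDvr5.dvr_of_flat_field e
  haveI := hdom; haveI := hdvr; haveI := hA'c; haveI := hA'f
  haveI : IsAlgClosed (ResidueField A') := IsAlgClosed.of_ringEquiv k' _ ε.symm
  let π : Spec (CommRingCat.of A') ⟶ Spec (CommRingCat.of A) := Spec.map (CommRingCat.ofHom (algebraMap A A'))
  have hπc : π (closedPoint A') = closedPoint A := IsLocalRing.comap_closedPoint (algebraMap A A')
  haveI : Module.FaithfullyFlat A A' := Module.FaithfullyFlat.of_flat_of_isLocalHom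
  have hπη : π (genPt A') = genPt A := PrimeSpectrum.ext (by
    show Ideal.comap (algebraMap A A') ⊥ = ⊥
    rw [← RingHom.ker_eq_comap_bot, ← RingHom.injective_iff_ker_eq_bot]
    exact FaithfulSMul.algebraMap_injective A A')
  exact ⟨A', inferInstance, hdom, hdvr, hA'c, inferInstance, π ≫ τ, by rw [Scheme.Hom.comp_apply, hπc, hτc],
    by rw [Scheme.Hom.comp_apply, hπη, hτη _ genPt_ne]⟩

variable {A : Type u} [CommRing A] [IsDomain A] [IsDiscreteValuationRing A] {X : Scheme.{u}}
  (q : X ⟶ Spec (CommRingCat.of A)) [LocallyQuasiFinite q]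

theorem nGeom_closed [IsAlgClosed (ResidueField A)] :
    MoreMor.nGeomConnComp q (closedPoint A : Spec (CommRingCat.of A)) =
      ENat.card ↥(q ⁻¹' {(closedPoint A : Spec (CommRingCat.of A))}) := by
  let s : Spec (CommRingCat.of (ResidueField A)) ⟶ Spec (CommRingCat.of A) :=
    Spec.map (CommRingCat.ofHom (residue A))
  haveI : IsClosedImmersion s := IsClosedImmersion.spec_of_surjective _ residue_surjective
  have hs : s (closedPoint (ResidueField A)) = closedPoint A := IsLocalRing.comap_closedPoint (residue A)
  have hrange : Set.range s = {(closedPoint A : Spec (CommRingCat.of A))} :=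
    Set.eq_singleton_iff_unique_mem.2 ⟨⟨_, hs⟩, by
      rintro _ ⟨w, rfl⟩
      rw [← hs]
      exact congrArg s (Subsingleton.elim (α := PrimeSpectrum (ResidueField A)) w _)⟩
  haveI := discrete_fibre q (closedPoint A : Spec (CommRingCat.of A))
  rw [← hs, (GeomLoci.nGeom_eq_counts q s (closedPoint (ResidueField A))).2,
    GeomLoci.card_fibre_eq_of_embedding q s hrange, card_connectedComponents_of_discrete, hs]

theorem card_closed_le_generic [IsAdicComplete (maximalIdeal A) A] [LocallyOfFiniteType q] [QuasiCompact q]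
    [IsSeparated q] (hopen : ∀ x, q x = closedPoint A → EGA43.IsOpenAt q.base x) :
    ENat.card ↥(q ⁻¹' {(closedPoint A : Spec (CommRingCat.of A))}) ≤ ENat.card ↥(q ⁻¹' {genPt A}) := by
  haveI : HenselianLocalRing A := Hensel.henselianLocalRing_of_henselianRing A
  obtain ⟨W, -, hW, hWc⟩ := exists_finite_part q
  haveI := hW
  haveI : IsLocallyNoetherian X := LocallyOfFiniteType.isLocallyNoetherian q
  have h : ∀ x : ↥(q ⁻¹' {(closedPoint A : Spec (CommRingCat.of A))}), ∃ z, z ⤳ x.1 ∧ q z = genPt A :=
    fun x => FlatDvr.exists_generization_of_isOpenAt q (hopen x.1 x.2)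
      (show genPt A ⤳ q x.1 by rw [show q x.1 = _ from x.2]; exact genPt_specializes)
  choose z hz hzq using h
  refine ENat.card_le_card_of_injective (f := fun x => (⟨z x, hzq x⟩ : ↥(q ⁻¹' {genPt A}))) ?_
  intro a b hab
  have hab' : z a = z b := congrArg Subtype.val hab
  let wa : W := ⟨a.1, hWc _ a.2⟩
  let wb : W := ⟨b.1, hWc _ b.2⟩
  let wz : W := ⟨z a, (hz a).mem_open W.isOpen wa.2⟩
  have h1 : wz ⤳ wa := W.ι.isOpenEmbedding.isInducing.specializes_iff.1 (hz a)
  have h2 : wz ⤳ wb := W.ι.isOpenEmbedding.isInducing.specializes_iff.1 (show z a ⤳ b.1 from hab'.symm ▸ hz b)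
  exact Subtype.ext (congrArg W.ι (eq_of_common_generization (W.ι ≫ q) h1 h2 a.2 b.2))

theorem nGeom_closed_le_generic [IsAdicComplete (maximalIdeal A) A] [IsAlgClosed (ResidueField A)]
    [LocallyOfFiniteType q] [QuasiCompact q] [IsSeparated q]
    (hopen : ∀ x, q x = closedPoint A → EGA43.IsOpenAt q.base x) :
    MoreMor.nGeomConnComp q (closedPoint A : Spec (CommRingCat.of A)) ≤ MoreMor.nGeomConnComp q (genPt A) :=
  (nGeom_closed q).trans_le ((card_closed_le_generic q hopen).trans (card_fibre_le_nGeom q _))

end Groth.Agent.QFCount
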