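import Groth.Agent.QFCount.Proper
import Groth.Agent.GeomLoci.SectNhdFlat
import Groth.Agent.GeomLoci.ConnFlat
import Groth.Agent.GeomLoci.DimConstModel
import Groth.Agent.ConsPropLib.Cores
import Groth.Agent.MorLib.DescendSep

/-!
# Flat quasi-finite separated morphisms: semicontinuity of the number of geometric points, properness
-/

set_option autoImplicit false
set_option linter.style.haveILetI false
set_option linter.unusedSectionVars false
set_option backward.isDefEq.respectTransparency false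
set_option backward.isDefEq.respectTransparency.types false

universe u

open AlgebraicGeometry CategoryTheory Limits Topology Groth.Agent.MorLib Groth.Agent.MorLib.Desc Groth.Agent.ConsPropLib

namespace Groth.Agent.QFCount

/-- A flat quasi-finite separated model over a noetherian base; a constant number of geometric points may
be assumed to be constant on the whole model base. -/
theorem exists_model {X S : Scheme.{u}} [IsAffine S] (f : X ⟶ S) [IsSeparated f] [Flat f] [LocallyQuasiFinite f]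
    [QuasiCompact f] [LocallyOfFinitePresentation f] :
    ∃ (S₀ X₀ : Scheme.{u}) (f₀ : X₀ ⟶ S₀) (q : X ⟶ X₀) (π : S ⟶ S₀), IsNoetherian S₀ ∧ IsSeparated f₀ ∧ Flat f₀ ∧
      LocallyQuasiFinite f₀ ∧ QuasiCompact f₀ ∧ LocallyOfFiniteType f₀ ∧ IsPullback q f f₀ π ∧
      ∀ k : ℕ∞, (∀ s : S, MoreMor.nGeomConnComp f s = k) →
        ∃ (S₁ : Scheme.{u}) (π₁ : S ⟶ S₁) (m : S₁ ⟶ S₀), IsNoetherian S₁ ∧ π₁ ≫ m = π ∧
          ∀ t : S₁, MoreMor.nGeomConnComp f₀ (m t) = k := by
  obtain ⟨I, _, _, D, c, hc, e, hA, hN⟩ := exists_noetherian_limit S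
  haveI := hA
  haveI : ∀ (i j : I) (φ : i ⟶ j), IsAffineHom (D.map φ) := fun i j φ => isAffineHom_of_isAffine _
  haveI : ∀ {i j : I} (φ : i ⟶ j), IsAffineHom (D.map φ) := fun φ => isAffineHom_of_isAffine _
  obtain ⟨i, X₁, u₁, g₁, hX⟩ := hasModel hc (f ≫ e.inv)
  haveI := hX.lfp; haveI := hX.qc; haveI := hX.qs
  haveI : CompactSpace ↥X₁ := QuasiCompact.compactSpace_of_compactSpace u₁
  haveI : QuasiSeparatedSpace ↥X₁ := quasiSeparatedSpace_of_quasiSeparated u₁
  obtain ⟨j, φ, hj⟩ := core_isSeparated I D c hc (fun a b f => inferInstance) i (hA i) u₁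
    inferInstance inferInstance trivial (of_two @IsSeparated hX.sq (IsPullback.of_hasPullback _ _) inferInstance)
  haveI := hj
  let u₂ := pullback.snd u₁ (D.map φ)
  haveI : CompactSpace ↥(pullback u₁ (D.map φ)) := QuasiCompact.compactSpace_of_compactSpace u₂
  haveI : QuasiSeparatedSpace ↥(pullback u₁ (D.map φ)) := quasiSeparatedSpace_of_quasiSeparated u₂
  have h₂ := (hX.pushed φ).sq
  haveI : LocallyQuasiFinite (f ≫ e.inv) := inferInstance
  haveI : MorphismProperty.RespectsIso (@LocallyQuasiFinite : MorphismProperty Scheme.{u}) :=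
    MorphismProperty.IsStableUnderBaseChange.respectsIso
  obtain ⟨l, χ, hl⟩ := core_locallyQuasiFinite I D c hc (fun a b f => inferInstance) j (hA j) u₂
    inferInstance inferInstance (inferInstance : LocallyOfFiniteType u₂)
    (of_two @LocallyQuasiFinite h₂ (IsPullback.of_hasPullback _ _) inferInstance)
  haveI := hl
  let u₃ := pullback.snd u₂ (D.map χ)
  haveI : CompactSpace ↥(pullback u₂ (D.map χ)) := QuasiCompact.compactSpace_of_compactSpace u₃
  haveI : QuasiSeparatedSpace ↥(pullback u₂ (D.map χ)) := quasiSeparatedSpace_of_quasiSeparated u₃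
  have h₃ := ((hX.pushed φ).pushed χ).sq
  have hY : IsPullback (c.π.app l) (𝟙 c.pt) (𝟙 (D.obj l)) (c.π.app l) :=
    IsPullback.id_vert (c.π.app l)
  obtain ⟨k, ψ, Xk, Yk, fk, gk, pY, pX, hk, hkX, hflat⟩ :=
    Groth.Agent.S2075.result D c hc l u₃ (𝟙 (D.obj l)) (f ≫ e.inv) (𝟙 c.pt) (c.π.app l) _ hY h₃
  haveI := hflat
  haveI : IsIso gk := hk.isIso_snd_of_isIso
  have small : IsPullback pX (fk ≫ gk) u₃ (D.map ψ) := by
    have := hkX.paste_vert hk
    rwa [Category.comp_id] at this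
  let q : X ⟶ Xk := small.lift ((hX.pushed φ).push χ) ((f ≫ e.inv) ≫ c.π.app k)
    (by rw [h₃.w, Category.assoc (f ≫ e.inv), c.w ψ])
  have hq : IsPullback q (f ≫ e.inv) (fk ≫ gk) (c.π.app k) := by
    refine IsPullback.of_right ?_ (small.lift_snd _ _ _) small
    rw [small.lift_fst, c.w ψ]
    exact h₃
  haveI : IsSeparated (fk ≫ gk) := MorphismProperty.of_isPullback small inferInstance
  haveI : QuasiCompact (fk ≫ gk) := MorphismProperty.of_isPullback small inferInstance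
  haveI : LocallyQuasiFinite (fk ≫ gk) := MorphismProperty.of_isPullback small inferInstance
  haveI : LocallyOfFiniteType (fk ≫ gk) := MorphismProperty.of_isPullback small inferInstance
  have hsq : IsPullback q f (fk ≫ gk) (e.inv ≫ c.π.app k) :=
    hq.of_iso (Iso.refl _) (Iso.refl _) e (Iso.refl _) (by simp) (by simp) (by simp) (by simp)
  haveI := hN k
  refine ⟨D.obj k, Xk, fk ≫ gk, q, e.inv ≫ c.π.app k, hN k, inferInstance, inferInstance, inferInstance,
    inferInstance, inferInstance, hsq, fun n hn => ?_⟩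
  obtain ⟨a, θ, hsub⟩ := MorLib.LimPro.exists_subset hc k (A := Set.univ) MorLib.LimCons.pro_univ
    (GeomLoci.ind_of_constructible (GeomLoci.isConstructible_counts (fk ≫ gk) n).2) (fun p _ => by
      have h := ((Triage.GeomCount.nGeom_baseChange (fk ≫ gk) f q (e.inv ≫ c.π.app k) hsq (e.hom p)).2).symm.trans (hn _)
      rwa [← Scheme.Hom.comp_apply, e.hom_inv_id_assoc] at h)
  exact ⟨D.obj a, e.inv ≫ c.π.app a, D.map θ, hN a, by rw [Category.assoc, c.w θ], fun t => hsub (Set.mem_univ t)⟩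

theorem nhds_of_model {X Y : Scheme.{u}} (f : X ⟶ Y) [IsSeparated f] [Flat f] [LocallyQuasiFinite f]
    [QuasiCompact f] [LocallyOfFinitePresentation f] :
    LowerSemicontinuous (fun z : Y => MoreMor.nGeomConnComp f z) ∧
      ∀ y₀ : Y, (∃ V ∈ nhds y₀, ∀ z ∈ V, MoreMor.nGeomConnComp f z = MoreMor.nGeomConnComp f y₀) →
        ∃ U : Y.Opens, y₀ ∈ U ∧ IsProper (f ∣_ U) := by
  constructor
  · intro y k hk
    obtain ⟨V, hV, hyV, -⟩ := exists_isAffineOpen_mem_and_subset (x := y) (U := ⊤) trivial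
    haveI : IsAffine (V : Scheme.{u}) := hV
    haveI : LocallyQuasiFinite (pullback.snd f V.ι) := MorphismProperty.pullback_snd _ _ inferInstance
    obtain ⟨S₀, X₀, f₀, q, π, _, _, _, _, _, _, hq, -⟩ := exists_model (pullback.snd f V.ι)
    haveI : LocallyOfFinitePresentation f₀ := GeomRedFlat5.lfp_of_noetherian f₀
    have hcount : ∀ v : (V : Scheme.{u}), MoreMor.nGeomConnComp f (V.ι v) = MoreMor.nGeomConnComp f₀ (π v) := fun v =>
      ((Triage.GeomCount.nGeom_baseChange f _ _ V.ι (IsPullback.of_hasPullback f V.ι) v).2.symm).trans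
        (Triage.GeomCount.nGeom_baseChange f₀ _ q π hq v).2
    let v : (V : Scheme.{u}) := ⟨y, hyV⟩
    obtain ⟨W, hW, hWle⟩ := nGeomConnComp_le_nhds (y := π v) f₀ (fun x _ => GeomLoci.isUnivOpenAt_of_flat f₀ x)
    refine Filter.mem_of_superset
      (V.ι.isOpenEmbedding.isOpenMap.image_mem_nhds (π.continuous.continuousAt.preimage_mem_nhds hW)) ?_
    rintro _ ⟨w, hw, rfl⟩
    have hk' : k < MoreMor.nGeomConnComp f (V.ι v) := hk
    show k < MoreMor.nGeomConnComp f (V.ι w)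
    rw [hcount w]
    exact (hcount v ▸ hk').trans_le (hWle _ hw)
  · rintro y₀ ⟨N, hN, hc⟩
    obtain ⟨N', hN', hN'o, hyN'⟩ := mem_nhds_iff.1 hN
    obtain ⟨V, hV, hyV, hVsub⟩ := exists_isAffineOpen_mem_and_subset (x := y₀) (U := ⟨N', hN'o⟩) hyN'
    haveI : IsAffine (V : Scheme.{u}) := hV
    let fV := pullback.snd f V.ι
    haveI : LocallyQuasiFinite fV := MorphismProperty.pullback_snd _ _ inferInstance
    obtain ⟨S₀, X₀, f₀, q, π, _, _, _, _, _, _, hq, hext⟩ := exists_model fV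
    obtain ⟨S₁, π₁, m, _, hm, hconst⟩ := hext (MoreMor.nGeomConnComp f y₀) fun s => by
      rw [(Triage.GeomCount.nGeom_baseChange f fV _ V.ι (IsPullback.of_hasPullback f V.ι) s).2]
      exact hc _ (hN' (hVsub s.2))
    let f₁ := pullback.snd f₀ m
    haveI : LocallyQuasiFinite f₁ := MorphismProperty.pullback_snd _ _ inferInstance
    haveI : LocallyOfFinitePresentation f₁ := GeomRedFlat5.lfp_of_noetherian f₁
    let v : (V : Scheme.{u}) := ⟨y₀, hyV⟩
    obtain ⟨U₁, hU₁, hp⟩ := exists_isProper (f := f₁) (π₁ v) (fun x _ => GeomLoci.isUnivOpenAt_of_flat f₁ x)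
      ⟨Set.univ, Filter.univ_mem, fun z _ => by
        rw [(Triage.GeomCount.nGeom_baseChange f₀ f₁ _ m (IsPullback.of_hasPullback f₀ m) z).2,
          (Triage.GeomCount.nGeom_baseChange f₀ f₁ _ m (IsPullback.of_hasPullback f₀ m) (π₁ v)).2, hconst, hconst]⟩
    let U : Y.Opens := V.ι ''ᵁ (π₁ ⁻¹ᵁ U₁)
    refine ⟨U, ⟨v, hU₁, rfl⟩, ?_⟩
    haveI := hp
    let l : pullback f V.ι ⟶ pullback f₀ m := pullback.lift q (fV ≫ π₁) (by rw [Category.assoc, hm]; exact hq.w)
    have hl : IsPullback l fV f₁ π₁ := IsPullback.of_right (by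
      rw [pullback.lift_fst, hm]; exact hq) (pullback.lift_snd _ _ _) (IsPullback.of_hasPullback f₀ m)
    haveI : IsProper (fV ∣_ π₁ ⁻¹ᵁ U₁) := by
      let j := (π₁ ⁻¹ᵁ U₁).ι
      let j₁ := U₁.ι
      let r := π₁ ∣_ U₁
      have hbig := (isPullback_morphismRestrict fV (π₁ ⁻¹ᵁ U₁)).flip.paste_horiz hl
      rw [← morphismRestrict_ι π₁ U₁] at hbig
      have hsm := (isPullback_morphismRestrict f₁ U₁).flip
      exact MorphismProperty.of_isPullback
        (IsPullback.of_right (h₁₁ := hsm.lift (_ ≫ l) (fV ∣_ π₁ ⁻¹ᵁ U₁ ≫ r) (by rw [hbig.w, Category.assoc])) (by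
          rw [hsm.lift_fst]; exact hbig) (hsm.lift_snd _ _ _) hsm) hp
    have h2 := (isPullback_morphismRestrict fV (π₁ ⁻¹ᵁ U₁)).flip.paste_horiz (IsPullback.of_hasPullback f V.ι)
    have hr : Set.range ((π₁ ⁻¹ᵁ U₁).ι ≫ V.ι) = Set.range U.ι := by
      rw [Scheme.Opens.range_ι]
      show Set.range ((π₁ ⁻¹ᵁ U₁).ι ≫ V.ι) = V.ι '' (π₁ ⁻¹ᵁ U₁ : Set (V : Scheme.{u}))
      rw [show ⇑((π₁ ⁻¹ᵁ U₁).ι ≫ V.ι) = V.ι ∘ (π₁ ⁻¹ᵁ U₁).ι from funext fun _ => Scheme.Hom.comp_apply _ _ _,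
        Set.range_comp, Scheme.Opens.range_ι]
    let e := IsOpenImmersion.isoOfRangeEq ((π₁ ⁻¹ᵁ U₁).ι ≫ V.ι) U.ι hr
    have h4 := h2.of_iso (e₁ := Iso.refl _) (e₂ := Iso.refl _) (e₃ := e) (e₄ := Iso.refl _) (fst' := (fV ⁻¹ᵁ π₁ ⁻¹ᵁ U₁).ι ≫ pullback.fst f V.ι)
      (snd' := (fV ∣_ π₁ ⁻¹ᵁ U₁) ≫ e.hom) (f' := f) (g' := U.ι) (by simp) (by simp) (by simp) (by simp [e])
    have h6 := h4.isoIsPullback_hom_snd _ _ (isPullback_morphismRestrict f U).flip
    refine (MorphismProperty.cancel_left_of_respectsIso @IsProper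
      (h4.isoIsPullback _ _ (isPullback_morphismRestrict f U).flip).hom (f ∣_ U)).1 ?_
    rw [h6]
    infer_instance

end Groth.Agent.QFCount
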