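import Groth.Agent.QFCount.Dvr
import Groth.Agent.GeomLoci.Constructible
import Groth.Agent.FibDim.Comp
import Groth.Agent.GeomRedFlat5.Nhd

/-!
# Lower semicontinuity of the geometric number of points of a quasi-finite separated morphism
-/

set_option autoImplicit false
set_option linter.style.haveILetI false
set_option linter.unusedSectionVars false
set_option backward.isDefEq.respectTransparency false
set_option backward.isDefEq.respectTransparency.types false

universe u

open AlgebraicGeometry CategoryTheory CategoryTheory.Limits IsLocalRing Topology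
open Groth.Agent.GeomLoci (genPt genPt_ne genPt_specializes)

namespace Groth.Agent.QFCount

variable {X Y : Scheme.{u}} (f : X ⟶ Y) [LocallyQuasiFinite f] [LocallyOfFiniteType f] [QuasiCompact f]
  [IsSeparated f] [IsLocallyNoetherian Y] {y y' : Y}

theorem nGeomConnComp_le_of_generization (hy : y' ⤳ y) (hopen : ∀ x : X, f x = y → EGA43.IsUnivOpenAt f x) :
    MoreMor.nGeomConnComp f y ≤ MoreMor.nGeomConnComp f y' := by
  by_cases hne : y = y'
  · rw [hne]
  obtain ⟨A, _, _, _, _, _, τ, hc, hη⟩ := exists_dvr_complete hy hne
  haveI : LocallyQuasiFinite (pullback.snd f τ) := MorphismProperty.pullback_snd _ _ inferInstance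
  have hcount := fun t => (Triage.GeomCount.nGeom_baseChange f (pullback.snd f τ) (pullback.fst f τ) τ
    (IsPullback.of_hasPullback f τ) t).2
  rw [← hc, ← hη, ← hcount, ← hcount]
  refine nGeom_closed_le_generic _ fun x hx => ?_
  exact hopen (pullback.fst f τ x)
    (by rw [← Scheme.Hom.comp_apply, pullback.condition, Scheme.Hom.comp_apply, hx, hc]) _ τ x rfl

theorem nGeomConnComp_le_nhds (hopen : ∀ x : X, f x = y → EGA43.IsUnivOpenAt f x) :
    ∃ V ∈ nhds y, ∀ z ∈ V, MoreMor.nGeomConnComp f y ≤ MoreMor.nGeomConnComp f z := by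
  haveI : LocallyOfFinitePresentation f := GeomRedFlat5.lfp_of_noetherian f
  obtain ⟨n, hn⟩ := ENat.ne_top_iff_exists.1 (GeomLoci.nGeomConnComp_ne_top f y)
  have hC : IsLocallyConstructible {z : Y | MoreMor.nGeomConnComp f y ≤ MoreMor.nGeomConnComp f z} := by
    have e : {z : Y | MoreMor.nGeomConnComp f y ≤ MoreMor.nGeomConnComp f z} =
        ⋂ m ∈ Finset.range n, {z : Y | MoreMor.nGeomConnComp f z = (m : ℕ∞)}ᶜ := by
      ext z
      simp only [Set.mem_ofPred_eq, Set.mem_iInter, Finset.mem_range, Set.mem_compl_iff, ← hn]
      constructor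
      · intro h m hm e
        rw [e, Nat.cast_le] at h
        exact absurd h (Nat.not_le.2 hm)
      · intro h
        obtain ⟨m, hm⟩ := ENat.ne_top_iff_exists.1 (GeomLoci.nGeomConnComp_ne_top f z)
        rw [← hm, Nat.cast_le]
        by_contra hc
        exact h m (Nat.not_le.1 hc) hm.symm
    rw [e]
    induction Finset.range n using Finset.induction with
    | empty => simp
    | insert a s ha ih =>
      rw [Finset.set_biInter_insert]
      exact IsLocallyConstructible.inter (fun x =>
        let ⟨U, h1, h2, h3⟩ := (GeomLoci.isLocallyConstructible_counts f (a : ℕ∞)).2 x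
        ⟨U, h1, h2, by rw [Set.preimage_compl]; exact h3.compl⟩) ih
  exact ⟨_, FibDim.mem_nhds_of_generizations hC fun z hz => nGeomConnComp_le_of_generization f hz hopen,
    fun z hz => hz⟩

end Groth.Agent.QFCount
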