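import Groth.Agent.QFCount.Gen
import Groth.Agent.S0084
import Groth.Agent.S0542
import Groth.Agent.FDescent.QuasiFlat

/-!
# Properness of a quasi-finite separated morphism with locally constant number of geometric points
-/

set_option autoImplicit false
set_option linter.style.haveILetI false
set_option linter.unusedSectionVars false
set_option backward.isDefEq.respectTransparency false
set_option backward.isDefEq.respectTransparency.types false

universe u

open AlgebraicGeometry CategoryTheory CategoryTheory.Limits IsLocalRing Topology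

namespace Groth.Agent.QFCount

theorem isUnivOpenAt_baseChange {X Y T : Scheme.{u}} (f : X ⟶ Y) (g : T ⟶ Y) (x : ↥(pullback f g))
    (h : EGA43.IsUnivOpenAt f (pullback.fst f g x)) (W : (pullback f g).Opens) (w : W) (hw : W.ι w = x) :
    EGA43.IsUnivOpenAt (W.ι ≫ pullback.snd f g) w := by
  intro T' h' v hv U hU
  let m : pullback (W.ι ≫ pullback.snd f g) h' ⟶ pullback f (h' ≫ g) :=
    pullback.lift (pullback.fst _ _ ≫ W.ι ≫ pullback.fst f g) (pullback.snd _ _) (by
      rw [Category.assoc, Category.assoc, pullback.condition (f := f) (g := g), ← Category.assoc W.ι,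
        pullback.condition_assoc])
  have hm : m ≫ pullback.snd f (h' ≫ g) = pullback.snd (W.ι ≫ pullback.snd f g) h' := pullback.lift_snd _ _ _
  have hm' : m ≫ pullback.fst f (h' ≫ g) = pullback.fst _ _ ≫ W.ι ≫ pullback.fst f g := pullback.lift_fst _ _ _
  haveI : IsOpenImmersion m := by
    let e := pullbackLeftPullbackSndIso f g h'
    have sq1 : IsPullback (pullback.fst (W.ι ≫ pullback.snd f g) h') (pullback.snd (W.ι ≫ pullback.snd f g) h')
        (W.ι ≫ pullback.snd f g) h' := IsPullback.of_hasPullback _ _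
    let l : pullback (W.ι ≫ pullback.snd f g) h' ⟶ pullback (pullback.snd f g) h' :=
      pullback.map _ _ _ _ W.ι (𝟙 _) (𝟙 _) (by simp) (by simp)
    have hml : m = l ≫ e.hom := by
      apply pullback.hom_ext
      · rw [hm']; simp [l, e]
      · rw [hm]; simp [l, e]
    rw [hml]
    haveI : IsOpenImmersion l := inferInstance
    infer_instance
  have h1 := h T' (h' ≫ g) (m v) (by
    rw [← Scheme.Hom.comp_apply, hm', Scheme.Hom.comp_apply, Scheme.Hom.comp_apply]
    show pullback.fst f g (W.ι (pullback.fst (W.ι ≫ pullback.snd f g) h' v)) = _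
    rw [show pullback.fst (W.ι ≫ pullback.snd f g) h' v = w from hv, hw]) _ (m.isOpenMap.image_mem_nhds hU)
  rw [Set.image_image] at h1
  have hfun : (fun a => (pullback.snd f (h' ≫ g)).base (m a)) = ⇑(pullback.snd (W.ι ≫ pullback.snd f g) h').base :=
    funext fun a => by
      show (pullback.snd f (h' ≫ g)) (m a) = _
      rw [← Scheme.Hom.comp_apply, hm]
  rw [hfun, show (pullback.snd f (h' ≫ g)).base (m v) = (pullback.snd (W.ι ≫ pullback.snd f g) h').base v from
    congrFun hfun v] at h1
  exact h1

/-- An open subscheme has strictly fewer geometric points in a fibre it does not contain, and as many in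
a fibre it contains. -/
theorem nGeom_open {X Y : Scheme.{u}} (f : X ⟶ Y) [LocallyQuasiFinite f] [QuasiCompact f] [LocallyOfFiniteType f]
    (W : X.Opens) (t : Y) :
    MoreMor.nGeomConnComp (W.ι ≫ f) t ≤ MoreMor.nGeomConnComp f t ∧
      ((∀ x, f x = t → x ∈ W) → MoreMor.nGeomConnComp (W.ι ≫ f) t = MoreMor.nGeomConnComp f t) ∧
      (MoreMor.nGeomConnComp (W.ι ≫ f) t = MoreMor.nGeomConnComp f t → ∀ x, f x = t → x ∈ W) := by
  let Ω := SeparableClosure (Y.residueField t)
  let s : Spec (CommRingCat.of Ω) ⟶ Y :=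
    Spec.map (CommRingCat.ofHom (algebraMap (Y.residueField t) Ω)) ≫ Y.fromSpecResidueField t
  have hz : s (closedPoint Ω) = t := by rw [Scheme.Hom.comp_apply]; exact Scheme.fromSpecResidueField_apply _ _
  have hrange : Set.range (pullback.fst f s) = f ⁻¹' {t} := by
    rw [Scheme.Pullback.range_fst]
    congr 1
    refine Set.eq_singleton_iff_unique_mem.2 ⟨⟨_, hz⟩, ?_⟩
    rintro _ ⟨w, rfl⟩
    exact (congrArg s (Subsingleton.elim (α := PrimeSpectrum Ω) w (closedPoint Ω))).trans hz
  haveI : LocallyQuasiFinite (pullback.snd f s) := MorphismProperty.pullback_snd _ _ inferInstance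
  haveI : QuasiCompact (pullback.snd f s) := MorphismProperty.pullback_snd _ _ inferInstance
  haveI hd : DiscreteTopology ↥(pullback f s) := by
    have h := discrete_fibre (pullback.snd f s) (closedPoint Ω)
    have e : (pullback.snd f s) ⁻¹' {(closedPoint Ω : Spec (CommRingCat.of Ω))} = Set.univ :=
      Set.eq_univ_of_forall fun _ => Subsingleton.elim (α := PrimeSpectrum Ω) _ _
    rw [e] at h
    exact (Homeomorph.Set.univ _).symm.isEmbedding.discreteTopology
  haveI : CompactSpace ↥(pullback f s) := QuasiCompact.compactSpace_of_compactSpace (pullback.snd f s)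
  haveI : Finite ↥(pullback f s) := finite_of_compact_of_discrete
  let W' : Set ↥(pullback f s) := pullback.fst f s ⁻¹' (W : Set X)
  have h1 : MoreMor.nGeomConnComp f t = ENat.card ↥(pullback f s) := by
    refine (congrArg (MoreMor.nGeomConnComp f) hz).symm.trans ?_
    rw [(GeomLoci.nGeom_eq_counts f s (closedPoint Ω)).2, card_connectedComponents_of_discrete]
  have h2 : MoreMor.nGeomConnComp (W.ι ≫ f) t = ENat.card ↥W' := by
    refine (congrArg (MoreMor.nGeomConnComp (W.ι ≫ f)) hz).symm.trans ?_
    rw [(GeomLoci.nGeom_eq_counts (W.ι ≫ f) s (closedPoint Ω)).2]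
    let i := pullbackRightPullbackFstIso f s W.ι
    let e := i.inv ≫ pullback.snd W.ι (pullback.fst f s)
    have he : Set.range e = W' := by
      rw [show ⇑e = pullback.snd W.ι (pullback.fst f s) ∘ i.inv from funext fun _ => Scheme.Hom.comp_apply _ _ _,
        Set.range_comp, i.inv.surjective.range_eq, Set.image_univ, Scheme.Pullback.range_snd, W.range_ι]
    rw [GeomLoci.card_connectedComponents_congr (e.isEmbedding.toHomeomorph.trans (Homeomorph.setCongr he)),
      card_connectedComponents_of_discrete]
  rw [h1, h2]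
  refine ⟨ENat.card_le_card_of_injective Subtype.val_injective, fun h => ?_, fun h x hx => ?_⟩
  · have : W' = Set.univ := Set.eq_univ_of_forall fun a => h _ (show pullback.fst f s a ∈ f ⁻¹' {t} from
      hrange ▸ Set.mem_range_self a)
    rw [this]
    exact ENat.card_congr (Equiv.Set.univ _)
  · obtain ⟨a, rfl⟩ : x ∈ Set.range (pullback.fst f s) := hrange ▸ hx
    rw [ENat.card_eq_coe_natCard, ENat.card_eq_coe_natCard, Nat.cast_inj] at h
    by_contra ha
    exact absurd h (Finite.card_subtype_lt (p := (· ∈ W')) (x := a) ha).ne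

/-- A quasi-finite separated morphism which is universally closed over the local scheme at `y` is finite
near `y`. -/
theorem exists_isProper_of_local {X Y : Scheme.{u}} (f : X ⟶ Y) [LocallyQuasiFinite f] [LocallyOfFiniteType f]
    [QuasiCompact f] [IsSeparated f] (y : Y) (h : IsFinite (pullback.snd f (Y.fromSpecStalk y))) :
    ∃ U : Y.Opens, y ∈ U ∧ IsProper (f ∣_ U) := by
  haveI := h
  let j := f.toNormalization
  let π := f.fromNormalization
  haveI : QuasiCompact j := by
    haveI : QuasiCompact (j ≫ π) := by rw [Scheme.Hom.toNormalization_fromNormalization]; infer_instance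
    exact QuasiCompact.of_comp j π
  let C : Set ↥f.normalization := closure (Set.range j) \ Set.range j
  have hC : IsClosed C := isClosed_closure.sdiff j.isOpenEmbedding.isOpen_range
  have hπ : IsClosed (π '' C) := π.isClosedMap C hC
  have hy : y ∉ π '' C := by
    rintro ⟨c, ⟨hc, hcn⟩, hcy⟩
    obtain ⟨x, hx⟩ := FDescent.exists_specializes_of_mem_closure_range j hc
    let s := Y.fromSpecStalk y
    let jO : pullback f s ⟶ pullback π s :=
      pullback.map f s π s j (𝟙 _) (𝟙 _) (by simp [j, π]) (by simp)
    have hjO : jO ≫ pullback.snd π s = pullback.snd f s := by simp [jO]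
    haveI : IsProper (jO ≫ pullback.snd π s) := by rw [hjO]; infer_instance
    haveI : UniversallyClosed jO := UniversallyClosed.of_comp_of_isSeparated jO (pullback.snd π s)
    have hxy : π (j x) ⤳ y := hcy ▸ hx.map π.continuous
    obtain ⟨t, ht⟩ : π (j x) ∈ Set.range s := by rw [Scheme.range_fromSpecStalk]; exact hxy
    obtain ⟨tc, htc⟩ : y ∈ Set.range s := by rw [Scheme.range_fromSpecStalk]; exact specializes_refl y
    have hfx : f x = π (j x) := by
      rw [← Scheme.Hom.comp_apply, Scheme.Hom.toNormalization_fromNormalization]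
    obtain ⟨a, ha, -⟩ := Scheme.Pullback.exists_preimage_pullback (f := f) (g := s) x t (hfx.trans ht.symm)
    obtain ⟨b, hb, -⟩ := Scheme.Pullback.exists_preimage_pullback (f := π) (g := s) c tc (hcy.trans htc.symm)
    have hp : ∀ v, pullback.fst π s (jO v) = j (pullback.fst f s v) := fun v => by
      rw [← Scheme.Hom.comp_apply, ← Scheme.Hom.comp_apply, pullback.lift_fst]
    haveI : IsPreimmersion s := inferInstance
    haveI : IsPreimmersion (pullback.fst π s) := MorphismProperty.pullback_fst _ _ inferInstance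
    have hspec : jO a ⤳ b := (pullback.fst π s).isEmbedding.isInducing.specializes_iff.1 (by
      rw [hp, ha, hb]; exact hx)
    have hb' : b ∈ Set.range jO :=
      hspec.mem_closed jO.isClosedMap.isClosed_range (Set.mem_range_self a)
    obtain ⟨a', rfl⟩ := hb'
    exact hcn ⟨pullback.fst f s a', (hp a').symm.trans hb⟩
  refine ⟨⟨(π '' C)ᶜ, hπ.isOpen_compl⟩, hy, ?_⟩
  set U : Y.Opens := ⟨(π '' C)ᶜ, hπ.isOpen_compl⟩
  haveI : IsClosedImmersion (j ∣_ π ⁻¹ᵁ U) := by
    rw [IsClosedImmersion.iff_isPreimmersion]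
    refine ⟨inferInstance, ?_⟩
    have hr : Set.range (j ∣_ π ⁻¹ᵁ U) = (π ⁻¹ᵁ U).ι ⁻¹' closure (Set.range j) := by
      ext ⟨v, hv⟩
      constructor
      · rintro ⟨a, ha⟩
        refine subset_closure ⟨(j ⁻¹ᵁ (π ⁻¹ᵁ U)).ι a, ?_⟩
        rw [← ha, ← Scheme.Hom.comp_apply, ← Scheme.Hom.comp_apply, morphismRestrict_ι]
      · intro hvc
        obtain ⟨a, ha⟩ : v ∈ Set.range j := by
          by_contra hvn
          exact hv ⟨v, ⟨hvc, hvn⟩, rfl⟩
        refine ⟨⟨a, show j a ∈ π ⁻¹ᵁ U from ha ▸ hv⟩, Subtype.ext ?_⟩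
        show (π ⁻¹ᵁ U).ι ((j ∣_ π ⁻¹ᵁ U) _) = v
        rw [← Scheme.Hom.comp_apply, morphismRestrict_ι, Scheme.Hom.comp_apply]
        exact ha
    rw [hr]
    exact isClosed_closure.preimage (π ⁻¹ᵁ U).ι.continuous
  have e : f ∣_ U = ((X.isoOfEq (by rw [← Scheme.Hom.comp_preimage, Scheme.Hom.toNormalization_fromNormalization])).hom ≫
      (j ∣_ π ⁻¹ᵁ U)) ≫ (π ∣_ U) := by
    rw [← cancel_mono U.ι]
    simp [morphismRestrict_ι, morphismRestrict_ι_assoc, j, π]
  haveI : UniversallyClosed (π ∣_ U) := inferInstance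
  haveI : UniversallyClosed (f ∣_ U) := by rw [e]; infer_instance
  haveI : LocallyOfFiniteType (f ∣_ U) := inferInstance
  haveI : IsSeparated (f ∣_ U) := inferInstance
  exact {}

theorem exists_isProper {X Y : Scheme.{u}} [IsLocallyNoetherian Y] (f : X ⟶ Y)
    [IsSeparated f] [LocallyQuasiFinite f] [LocallyOfFiniteType f] [QuasiCompact f] (y : Y)
    (h : ∀ x : X, f x = y → EGA43.IsUnivOpenAt f x)
    (hc : ∃ V ∈ nhds y, ∀ z ∈ V, MoreMor.nGeomConnComp f z = MoreMor.nGeomConnComp f y) :
    ∃ U : Y.Opens, y ∈ U ∧ IsProper (f ∣_ U) := by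
  obtain ⟨V, hV, hVc⟩ := hc
  refine exists_isProper_of_local f y ?_
  let O := Y.presheaf.stalk y
  let A := AdicCompletion (maximalIdeal O) O
  haveI : IsNoetherianRing A := Groth.Agent.S0542.result O _ (IsNoetherian.noetherian _)
  haveI : IsAdicComplete (maximalIdeal A) A := inferInstance
  haveI : HenselianLocalRing A := Hensel.henselianLocalRing_of_henselianRing A
  let c : Spec (CommRingCat.of A) ⟶ Spec O := Spec.map (CommRingCat.ofHom (algebraMap O A))
  haveI : Module.FaithfullyFlat O A := Module.FaithfullyFlat.of_flat_of_isLocalHom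
  haveI : Flat c := (HasRingHomProperty.Spec_iff (P := @Flat)).2 (RingHom.flat_algebraMap_iff.2 inferInstance)
  haveI : Surjective c := ⟨PrimeSpectrum.comap_surjective_of_faithfullyFlat⟩
  let g := c ≫ Y.fromSpecStalk y
  let fA := pullback.snd f g
  haveI : LocallyQuasiFinite fA := MorphismProperty.pullback_snd _ _ inferInstance
  obtain ⟨W, hWcl, hWfin, hWc⟩ := exists_finite_part fA
  haveI := hWfin
  have hgc : g (closedPoint A) = y := by
    rw [Scheme.Hom.comp_apply, show c (closedPoint A) = closedPoint O from IsLocalRing.comap_closedPoint (algebraMap O A)]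
    exact Scheme.fromSpecStalk_closedPoint
  have htop : W = ⊤ := by
    refine eq_top_iff.2 fun x _ => ?_
    let z := fA x
    have hzy : g z ⤳ y := by
      have := (IsLocalRing.specializes_closedPoint z).map g.continuous
      rwa [hgc] at this
    have hn : ∀ t, MoreMor.nGeomConnComp fA t = MoreMor.nGeomConnComp f (g t) := fun t =>
      (Triage.GeomCount.nGeom_baseChange f fA (pullback.fst f g) g (IsPullback.of_hasPullback f g) t).2
    have hVz : g z ∈ V := by
      obtain ⟨V', hV', hV'o, hyV'⟩ := mem_nhds_iff.1 hV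
      exact hV' (hzy.mem_open hV'o hyV')
    haveI : LocallyQuasiFinite (W.ι ≫ fA) := inferInstance
    have hle : MoreMor.nGeomConnComp (W.ι ≫ fA) (closedPoint A) ≤ MoreMor.nGeomConnComp (W.ι ≫ fA) z := by
      refine nGeomConnComp_le_of_generization (W.ι ≫ fA) (IsLocalRing.specializes_closedPoint z) fun w hw => ?_
      refine isUnivOpenAt_baseChange f g (W.ι w) (h _ ?_) W w rfl
      rw [← Scheme.Hom.comp_apply, pullback.condition, Scheme.Hom.comp_apply]
      rw [show pullback.snd f g (W.ι w) = closedPoint A from hw, hgc]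
    rw [(nGeom_open fA W (closedPoint A)).2.1 (fun v hv => hWc v hv), hn, hgc, ← hVc _ hVz, ← hn] at hle
    exact (nGeom_open fA W z).2.2 (le_antisymm (nGeom_open fA W z).1 hle) x rfl
  have hfin : IsFinite fA := by
    subst htop
    exact (MorphismProperty.cancel_left_of_respectsIso @IsFinite (pullback f g).topIso.hom fA).1 hWfin
  haveI := Groth.Agent.S0084.result.{u}
  refine MorphismProperty.of_pullback_fst_of_descendsAlong (P := @IsFinite)
    (Q := (@Surjective ⊓ @Flat ⊓ @QuasiCompact : MorphismProperty Scheme.{u})) (f := c)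
    (g := pullback.snd f (Y.fromSpecStalk y)) ⟨⟨inferInstance, inferInstance⟩, inferInstance⟩ ?_
  have hbig : IsPullback (pullback.snd c (pullback.snd f (Y.fromSpecStalk y)) ≫ pullback.fst f (Y.fromSpecStalk y))
      (pullback.fst c (pullback.snd f (Y.fromSpecStalk y))) f g :=
    ((IsPullback.of_hasPullback c (pullback.snd f (Y.fromSpecStalk y))).flip).paste_horiz
      (IsPullback.of_hasPullback f (Y.fromSpecStalk y))
  have e : pullback.fst c (pullback.snd f (Y.fromSpecStalk y)) = hbig.isoPullback.hom ≫ fA := by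
    rw [IsPullback.isoPullback_hom_snd]
  rw [e]
  exact (MorphismProperty.cancel_left_of_respectsIso @IsFinite _ fA).2 hfin

end Groth.Agent.QFCount
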